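import Cfsg.Agent.Lib.Small.E6Three.Cent
import Cfsg.Agent.Lib.Small.FoldF4
import Cfsg.Agent.Lib.Small.FieldGraphCommute
import Cfsg.Agent.Lib.Lie.FieldFix
import Cfsg.Agent.Lib.Lie.TwistE6
import Cfsg.Agent.Lib.Lie.Parabolic
import Cfsg.Agent.Lib.Lie.Coeff
import Mathlib.Algebra.CharP.Frobenius

/-!
Three classes of subgroups of type F4(2) in the twisted group of type E6 over four elements.
-/

set_option autoImplicit false
set_option maxRecDepth 4000

namespace Cfsg.Agent.Small.E6Three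

open Cfsg.Lie Cfsg.Agent.Lie Matrix
open scoped MatrixGroups

theorem expE_pair : ([(56, 36), (15, 35), (42, 37), (29, 34)] : List (ℕ × ℕ)).all
    (fun p => Nat.beq (expE p.2 % 3) (2 * expE p.1 % 3)) = true ∧
    ([46, 25, 39, 32] : List ℕ).all (fun r => Nat.beq (expE r % 3) 0) = true := by decide +kernel

theorem expE_simple : (expE 56 + expE 37) % 3 = 1 ∧ (expE 42 + expE 36) % 3 = 2 := by decide +kernel

theorem cartan_rel : ∀ i : Fin chevE6.rank,
    (chevE6.cartan i.val 56 + chevE6.cartan i.val 37) % 3 =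
      (chevE6.cartan i.val 42 + chevE6.cartan i.val 36) % 3 := by decide +kernel

/-- The word of a generator at 1. -/
def gword (F : Type*) [Field F] (w : List ℕ) : List (ℕ × F) := w.map fun r => (r, 1)

theorem okSimple : ((List.range 4).all fun i =>
      gens.any (fun w => Fold.img FoldF4.tab (chevF4.simple i) == w.map fun r => (r, (1 : ℤ))) &&
      gens.any (fun w => Fold.img FoldF4.tab (chevF4.neg (chevF4.simple i)) == w.map fun r => (r, (1 : ℤ)))) = true ∧
    (gens.all fun w => (List.range 48).any fun r =>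
      Fold.img FoldF4.tab r == w.map fun q => (q, (1 : ℤ))) = true := by decide +kernel

theorem hd : Fold.Data chevF4 chevE6 FoldF4.tab FoldF4.Os :=
  Fold.data_of_ok FoldF4.okShape' (fun _ hr => FoldF4.row hr) FoldF4.okWeyl'
    (facts_of_mem (D := chevF4) (by simp)) FoldF4.okEta' FoldF4.okN1 FoldF4.okN2

theorem mem_twisted {K : Type*} [Field K] {w : List (ℕ × K)} (hw : w ∈ e6Words K 2) :
    factsE6.wg w ∈ twistedE6 K 2 :=
  Subgroup.subset_closure ⟨w, hw, factsE6.coe_wg w⟩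

theorem gword_mem {K : Type*} [Field K] {w : List ℕ} (hw : w ∈ gens) :
    gword K w ∈ e6Words K 2 := by
  simp only [gens, List.mem_cons, List.not_mem_nil, or_false] at hw
  rcases hw with rfl | rfl | rfl | rfl | rfl | rfl | rfl | rfl
  · exact Or.inr ⟨1, (e6p1, e6p6), by simp, by simp [gword, e6p1, e6p6]⟩
  · exact Or.inr ⟨1, (e6p3, e6p5), by simp, by simp [gword, e6p3, e6p5]⟩
  · exact Or.inl ⟨1, one_pow 2, e6p4, by simp, rfl⟩
  · exact Or.inl ⟨1, one_pow 2, e6p2, by simp, rfl⟩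
  · exact Or.inr ⟨1, (e6m1, e6m6), by simp, by simp [gword, e6m1, e6m6]⟩
  · exact Or.inr ⟨1, (e6m3, e6m5), by simp, by simp [gword, e6m3, e6m5]⟩
  · exact Or.inl ⟨1, one_pow 2, e6m4, by simp, rfl⟩
  · exact Or.inl ⟨1, one_pow 2, e6m2, by simp, rfl⟩

variable {K : Type*} [Field K]

/-- The diagonal automorphism attached to a unit. -/
noncomputable def dg (u : Kˣ) : GL chevE6.Idx K :=
  Units.map (Matrix.diagonalRingHom chevE6.Idx K).toMonoidHom
    (MulEquiv.piUnits.symm (Sum.elim (fun _ => 1) fun s => u ^ expE s.val))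

theorem coe_dg (u : Kˣ) :
    (dg u : Matrix chevE6.Idx chevE6.Idx K) = diagM chevE6 fun s => ((u ^ expE s : Kˣ) : K) := by
  show Matrix.diagonal _ = Matrix.diagonal _
  congr 1
  funext p
  cases p <;> rfl

theorem pow_mod_three {u : Kˣ} (hu : u ^ 3 = 1) {a b : ℕ} (h : a % 3 = b % 3) : u ^ a = u ^ b := by
  rw [← Nat.mod_add_div a 3, ← Nat.mod_add_div b 3, pow_add, pow_add, pow_mul, pow_mul, hu, one_pow,
    one_pow, h]

theorem isChar_chi {u : Kˣ} (hu : u ^ 3 = 1) :
    Facts.IsChar (D := chevE6) fun s => ((u ^ expE s : Kˣ) : K) := by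
  have h := okChar_true
  simp only [okChar, List.all_eq_true, List.mem_range, Bool.and_eq_true, Nat.beq_eq] at h
  refine ⟨fun s hs => ?_, fun s hs v hv q hq => ?_⟩
  · rw [← Units.val_mul, ← pow_add, pow_mod_three hu (b := 0) (by simpa using (h s hs).1)]
    simp
  · rw [← Units.val_pow_eq_pow_val, ← Units.val_mul, ← pow_mul, ← pow_add]
    congr 1
    refine pow_mod_three hu (((h s hs).2 v hv q hq).trans ?_)
    rw [mul_comm]

theorem dg_conj {u : Kˣ} (hu : u ^ 3 = 1) (r : ℕ) (t : K) :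
    dg u * factsE6.xg r t * (dg u)⁻¹ = factsE6.xg r (((u ^ expE r : Kˣ) : K) * t) := by
  by_cases hr : r < chevE6.nroots
  · rw [mul_inv_eq_iff_eq_mul]
    ext1
    rw [Units.val_mul, Units.val_mul, Facts.coe_xg, Facts.coe_xg, coe_dg]
    exact factsE6.diag_x (isChar_chi hu) r hr t
  · rw [factsE6.xg_out (not_lt.1 hr), factsE6.xg_out (not_lt.1 hr), mul_one, mul_inv_cancel]

theorem dg_mul (u v : Kˣ) : dg (u * v) = dg u * dg v := by
  ext1
  rw [Units.val_mul, coe_dg, coe_dg, coe_dg, diagM, diagM, diagM, diagonal_mul_diagonal]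
  congr 1
  funext p
  cases p <;> simp [mul_pow]

theorem dg_pow (u : Kˣ) (n : ℕ) : dg (u ^ n) = dg u ^ n := by
  induction n with
  | zero =>
    rw [pow_zero, pow_zero]
    ext1
    rw [coe_dg, diagM, Units.val_one, ← diagonal_one]
    congr 1
    funext p
    cases p <;> simp
  | succ n ih => rw [pow_succ, pow_succ, dg_mul, ih]

theorem scalar_mem_center {c : GL chevE6.Idx K} {s : K}
    (hc : (c : Matrix chevE6.Idx chevE6.Idx K) = s • 1) (y : GL chevE6.Idx K) : c * y = y * c := by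
  ext1
  rw [Units.val_mul, Units.val_mul, hc, smul_mul_assoc, mul_smul_comm, one_mul, mul_one]

/-- A diagonal automorphism times a scalar lies in the group only if it is trivial. -/
theorem not_mem_group {u : Kˣ} (hu : u ^ 3 = 1) (hu1 : u ≠ 1) (hcube : ∀ x : Kˣ, x ^ 3 = 1)
    {v c : GL chevE6.Idx K} {s : K} (hc : (c : Matrix chevE6.Idx chevE6.Idx K) = s • 1)
    (hv : v ∈ chevE6.group K) (hvc : dg u = v * c) : False := by
  obtain ⟨l, hl⟩ := coeff_of_mem (D := chevE6) (by simp)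
  have hconj : ∀ r, ∀ t : K, v * factsE6.xg r t * v⁻¹ = factsE6.xg r (((u ^ expE r : Kˣ) : K) * t) := by
    intro r t
    rw [← dg_conj hu r t, hvc]
    calc v * factsE6.xg r t * v⁻¹ = v * (factsE6.xg r t * c) * c⁻¹ * v⁻¹ := by group
      _ = v * c * factsE6.xg r t * (v * c)⁻¹ := by rw [← scalar_mem_center hc]; group
  have hN : v ∈ Subgroup.normalizer (chevE6.unipotentRadical K ∅ : Set (GL chevE6.Idx K)) := by
    have hle : ∀ h : GL chevE6.Idx K, (∀ r t, ∃ u', h * factsE6.xg r t * h⁻¹ = factsE6.xg r u') →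
        ∀ y ∈ chevE6.unipotentRadical K ∅, h * y * h⁻¹ ∈ chevE6.unipotentRadical K ∅ := by
      intro h hh y hy
      rw [factsE6.unipotentRadical_eq] at hy ⊢
      induction hy using Subgroup.closure_induction with
      | mem z hz =>
        obtain ⟨r, hr, t, rfl⟩ := hz
        obtain ⟨u', hu'⟩ := hh r t
        rw [Facts.tsys_x, hu']
        exact CommSys.x_mem_US _ hr u'
      | one => simp
      | mul a b _ _ ha hb =>
        rw [show h * (a * b) * h⁻¹ = (h * a * h⁻¹) * (h * b * h⁻¹) by group]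
        exact mul_mem ha hb
      | inv a _ ha =>
        rw [show h * a⁻¹ * h⁻¹ = (h * a * h⁻¹)⁻¹ by group]
        exact inv_mem ha
    refine Subgroup.mem_normalizer_iff.2 fun y => ⟨hle v (fun r t => ⟨_, hconj r t⟩) y, fun hy => ?_⟩
    have := hle v⁻¹ (fun r t => ⟨(((u ^ expE r)⁻¹ : Kˣ) : K) * t, ?_⟩) _ hy
    · rwa [inv_inv, mul_assoc, mul_assoc, inv_mul_cancel, mul_one, ← mul_assoc, inv_mul_cancel,
        one_mul] at this
    · have e := hconj r ((((u ^ expE r)⁻¹ : Kˣ) : K) * t)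
      rw [← mul_assoc (((u ^ expE r : Kˣ)) : K), ← Units.val_mul, mul_inv_cancel, Units.val_one,
        one_mul] at e
      rw [← e]
      group
  have hB : v ∈ (factsE6.tsys K).B := by
    have h := (factsE6.normalizer_rad hl (F := K) ∅).le ⟨hN, hv⟩
    rw [show chevE6.parabolicSubgroup K ∅ = chevE6.borelSubgroup K by
      simp [ChevalleyDatum.parabolicSubgroup]] at h
    rwa [factsE6.tsys_B]
  obtain ⟨w, hw, a, ha, he⟩ := (factsE6.tsys K).mem_B.1 hB
  rw [factsE6.tsys_H, factsE6.diagonalSubgroup_eq] at ha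
  obtain ⟨z, rfl⟩ := ha
  have hraise := (factsE6.U_mem_raise hw).1
  have hval : s • ((w : Matrix chevE6.Idx chevE6.Idx K) *
      diagM chevE6 fun r => (torChar chevE6 z r : K)) =
        diagM chevE6 fun r => ((u ^ expE r : Kˣ) : K) := by
    rw [← coe_dg, hvc, he, Units.val_mul, Units.val_mul, hc, coe_torus, mul_smul_comm, mul_one]
  have hs : s ≠ 0 := by
    intro h0
    have hdet : IsUnit ((c : Matrix chevE6.Idx chevE6.Idx K)).det :=
      (Matrix.isUnit_iff_isUnit_det _).1 c.isUnit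
    haveI : Nonempty chevE6.Idx := ⟨Sum.inl ⟨0, by decide⟩⟩
    rw [hc, h0, zero_smul, Matrix.det_zero] at hdet
    exact not_isUnit_zero hdet
  have hw1 : w = 1 := by
    refine Units.ext ?_
    ext p q
    by_contra hne
    have hlt := hraise p q (by rwa [Matrix.sub_apply, Units.val_one, sub_ne_zero] at *)
    have hpq : p ≠ q := by rintro rfl; omega
    have h := congrFun (congrFun hval p) q
    rw [Matrix.smul_apply, diagM, diagM, Matrix.mul_diagonal, Matrix.diagonal_apply_ne _ hpq,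
      smul_eq_mul] at h
    rw [Units.val_one, Matrix.one_apply_ne hpq] at hne
    have h' := (mul_eq_zero.1 h).resolve_left hs
    refine hne ((mul_eq_zero.1 h').resolve_right ?_)
    cases q <;> simp
  rw [hw1, Units.val_one, one_mul] at hval
  have hs1 : s = 1 := by
    have h := congrFun (congrFun hval (Sum.inl ⟨0, by decide⟩)) (Sum.inl ⟨0, by decide⟩)
    simpa [diagM] using h
  have ht : ∀ r, r < chevE6.nroots → torChar chevE6 z r = u ^ expE r := by
    intro r hr
    refine Units.ext ?_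
    have h := congrFun (congrFun hval (Sum.inr ⟨r, hr⟩)) (Sum.inr ⟨r, hr⟩)
    simpa [diagM, hs1] using h
  have key : torChar chevE6 z 56 * torChar chevE6 z 37 =
      torChar chevE6 z 42 * torChar chevE6 z 36 := by
    simp only [torChar, ← Finset.prod_mul_distrib]
    refine Finset.prod_congr rfl fun i _ => ?_
    rw [← _root_.zpow_add, ← _root_.zpow_add]
    obtain ⟨q, hq⟩ := (Int.emod_eq_emod_iff_emod_sub_eq_zero.1 (cartan_rel i) |>
      Int.dvd_of_emod_eq_zero)
    rw [eq_add_of_sub_eq hq, _root_.zpow_add, _root_.zpow_mul, show ((3 : ℤ)) = ((3 : ℕ) : ℤ) from rfl, zpow_natCast,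
      hcube, _root_.one_zpow, one_mul]
  rw [ht 56 (by decide), ht 37 (by decide), ht 42 (by decide), ht 36 (by decide), ← pow_add, ← pow_add,
    pow_mod_three hu (b := 1) expE_simple.1, pow_mod_three hu (b := 2) expE_simple.2] at key
  apply hu1
  rw [pow_one, pow_two] at key
  exact left_eq_mul.1 key

/-- The elements of the group of type F4 over the prime field, seen over K. -/
noncomputable def H0 [CharP K 2] : Subgroup (GL chevE6.Idx K) :=
  ((Fold.foldHom (F := ZMod 2) (hF := factsE6) hd).range).map (gmap (ZMod.castHom (dvd_refl 2) K))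

theorem iso_H0 [CharP K 2] : Nonempty (↥(H0 (K := K)) ≃* ↥(chevF4.group (ZMod 2))) := by
  obtain ⟨hF'⟩ := facts_of_mem (D := chevF4) (by simp)
  obtain ⟨e⟩ := Fold.iso_range (F := ZMod 2) (hF := factsE6) hd hF' (stHyp_of_mem (by simp))
    (hF'.torus_injective kerCertF4)
  exact ⟨(e.trans (Subgroup.equivMapOfInjective _ _ (gmap_injective _))).symm⟩

theorem gmap_wg [CharP K 2] (w : List ℕ) :
    gmap (ZMod.castHom (dvd_refl 2) K) (factsE6.wg (gword (ZMod 2) w)) = factsE6.wg (gword K w) := by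
  simp only [Facts.wg, gword, map_list_prod, List.map_map]
  congr 1
  refine List.map_congr_left fun r _ => ?_
  simp only [Function.comp_apply]
  rw [factsE6.gmap_xg, map_one]

theorem xf_eq_gword {r : ℕ} {w : List ℕ} (h : Fold.img FoldF4.tab r = w.map fun q => (q, (1 : ℤ))) :
    Fold.xf factsE6 FoldF4.tab r (1 : ZMod 2) = factsE6.wg (gword (ZMod 2) w) := by
  rw [Fold.xf, Fold.xw, h, List.map_map]
  simp [gword, Function.comp_def]

theorem gen_mem_H0 [CharP K 2] {w : List ℕ} (hw : w ∈ gens) : factsE6.wg (gword K w) ∈ H0 (K := K) := by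
  have h := okSimple.2
  simp only [List.all_eq_true, List.any_eq_true, beq_iff_eq] at h
  obtain ⟨r, -, hr⟩ := h w hw
  refine ⟨factsE6.wg (gword (ZMod 2) w), ⟨chevF4.stGen (ZMod 2) r 1, ?_⟩, gmap_wg w⟩
  rw [Fold.foldHom_x, xf_eq_gword hr]

theorem H0_le [CharP K 2] : H0 (K := K) ≤ twistedE6 K 2 := by
  obtain ⟨hF'⟩ := facts_of_mem (D := chevF4) (by simp)
  set S := ((twistedE6 K 2).comap (gmap (ZMod.castHom (dvd_refl 2) K))).comap
    (Fold.foldHom (F := ZMod 2) (hF := factsE6) hd) with hS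
  have hgen : ∀ r, (∃ w ∈ gens, Fold.img FoldF4.tab r = w.map fun q => (q, (1 : ℤ))) →
      ∀ t : ZMod 2, hF'.xg r t ∈ S.map (hF'.proj (ZMod 2)) := by
    rintro r ⟨w, hw, hr⟩ t
    refine ⟨chevF4.stGen (ZMod 2) r t, ?_, hF'.proj_x r t⟩
    show gmap _ (Fold.foldHom hd _) ∈ twistedE6 K 2
    rw [Fold.foldHom_x]
    rcases (show ∀ t : ZMod 2, t = 0 ∨ t = 1 by decide) t with rfl | rfl
    · have h0 : Fold.xf factsE6 FoldF4.tab r (0 : ZMod 2) = 1 := by
        have h := Fold.xf_add (hF := factsE6) hd r (0 : ZMod 2) 0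
        rw [add_zero] at h
        exact left_eq_mul.1 h
      rw [h0, map_one]
      exact one_mem _
    · rw [xf_eq_gword hr, gmap_wg]
      exact mem_twisted (gword_mem hw)
  have hle : chevF4.group (ZMod 2) ≤ S.map (hF'.proj (ZMod 2)) := by
    refine FieldGraph.group_le_of_simple hF' _ fun i hi t => ?_
    have h := okSimple.1
    simp only [List.all_eq_true, List.any_eq_true, List.mem_range, Bool.and_eq_true, beq_iff_eq] at h
    exact ⟨hgen _ (h i hi).1 t, hgen _ (h i hi).2 t⟩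
  rintro _ ⟨_, ⟨x, rfl⟩, rfl⟩
  obtain ⟨y, hy, hxy⟩ := hle (show hF'.proj (ZMod 2) x ∈ chevF4.group (ZMod 2) from
    hF'.proj_range (F := ZMod 2) ▸ ⟨x, rfl⟩)
  rw [← Fold.proj_injective hF' (stHyp_of_mem (by simp)) (hF'.torus_injective kerCertF4) hxy]
  exact hy

variable [CharP K 2]

/-- The Frobenius automorphism on matrices. -/
noncomputable def frob : GL chevE6.Idx K →* GL chevE6.Idx K := gmap (frobenius K 2)

theorem frob_H0 {x : GL chevE6.Idx K} (hx : x ∈ H0 (K := K)) : frob x = x := by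
  obtain ⟨y, -, rfl⟩ := hx
  have h : (frobenius K 2).comp (ZMod.castHom (dvd_refl 2) K) = ZMod.castHom (dvd_refl 2) K :=
    RingHom.ext_zmod _ _
  ext p q
  exact RingHom.congr_fun h _

theorem frob_dg (u : Kˣ) : frob (dg u) = dg u ^ 2 := by
  rw [← dg_pow]
  ext1
  rw [frob, coe_gmap, coe_dg, coe_dg, diagM, diagM, Matrix.diagonal_map (map_zero _)]
  congr 1
  funext p
  cases p <;> simp [frobenius_def, ← pow_mul, mul_comm]

theorem frob_twisted {g : GL chevE6.Idx K} (hg : g ∈ twistedE6 K 2) : frob g ∈ twistedE6 K 2 := by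
  suffices h : twistedE6 K 2 ≤ (twistedE6 K 2).comap frob from h hg
  refine (Subgroup.closure_le _).2 ?_
  rintro x ⟨w, hw, hx⟩
  rw [show x = factsE6.wg w from Units.ext (by rw [hx, factsE6.coe_wg])]
  show frob (factsE6.wg w) ∈ twistedE6 K 2
  have hmap : frob (factsE6.wg w) = factsE6.wg (w.map fun p => (p.1, p.2 ^ 2)) := by
    simp only [frob, Facts.wg, map_list_prod, List.map_map]
    congr 1
    refine List.map_congr_left fun r _ => ?_
    simp only [Function.comp_apply]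
    rw [factsE6.gmap_xg, frobenius_def]
  rw [hmap]
  refine mem_twisted ?_
  rcases hw with ⟨t, ht, r, hr, rfl⟩ | ⟨t, rs, hrs, rfl⟩
  · exact Or.inl ⟨t ^ 2, by rw [ht, ht], r, hr, rfl⟩
  · exact Or.inr ⟨t ^ 2, rs, hrs, rfl⟩

theorem dg_twisted {u : Kˣ} (hu : u ^ 3 = 1) {g : GL chevE6.Idx K} (hg : g ∈ twistedE6 K 2) :
    dg u * g * (dg u)⁻¹ ∈ twistedE6 K 2 := by
  suffices h : twistedE6 K 2 ≤ (twistedE6 K 2).comap (MulAut.conj (dg u)).toMonoidHom from h hg
  refine (Subgroup.closure_le _).2 ?_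
  rintro x ⟨w, hw, hx⟩
  rw [show x = factsE6.wg w from Units.ext (by rw [hx, factsE6.coe_wg])]
  show (MulAut.conj (dg u)).toMonoidHom (factsE6.wg w) ∈ twistedE6 K 2
  have hmap : (MulAut.conj (dg u)).toMonoidHom (factsE6.wg w) =
      factsE6.wg (w.map fun p => (p.1, ((u ^ expE p.1 : Kˣ) : K) * p.2)) := by
    simp only [Facts.wg, map_list_prod, List.map_map]
    congr 1
    refine List.map_congr_left fun r _ => ?_
    simp only [Function.comp_apply, MulEquiv.coe_toMonoidHom, MulAut.conj_apply]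
    exact dg_conj hu _ _
  rw [hmap]
  refine mem_twisted ?_
  obtain ⟨h2, h0⟩ := expE_pair
  simp only [List.all_eq_true, Nat.beq_eq] at h2 h0
  rcases hw with ⟨t, ht, r, hr, rfl⟩ | ⟨t, ⟨a, b⟩, hrs, rfl⟩
  · refine Or.inl ⟨t, ht, r, hr, ?_⟩
    have he : u ^ expE r = 1 := by
      rw [pow_mod_three hu (b := 0) (h0 r hr), pow_zero]
    simp only [List.map_cons, List.map_nil, he, Units.val_one, one_mul]
  · refine Or.inr ⟨((u ^ expE a : Kˣ) : K) * t, (a, b), hrs, ?_⟩
    have he : u ^ expE b = (u ^ expE a) ^ 2 := by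
      rw [← pow_mul]
      exact pow_mod_three hu ((h2 (a, b) hrs).trans (by rw [mul_comm]))
    simp only [List.map_cons, List.map_nil]
    rw [he, mul_pow, Units.val_pow_eq_pow_val _ 2]

theorem dg_pow_twisted {u : Kˣ} (hu : u ^ 3 = 1) (n : ℕ) {g : GL chevE6.Idx K}
    (hg : g ∈ twistedE6 K 2) : dg u ^ n * g * (dg u ^ n)⁻¹ ∈ twistedE6 K 2 := by
  rw [← dg_pow]
  exact dg_twisted (by rw [← pow_mul, mul_comm, pow_mul, hu, one_pow]) hg

theorem not_commute [Fintype K] (hK : Fintype.card K = 4) {u : Kˣ} (hu : u ^ 3 = 1) (hu1 : u ≠ 1)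
    (hcube : ∀ x : Kˣ, x ^ 3 = 1) {y : GL chevE6.Idx K} (hy : y ∈ twistedE6 K 2) {k : ℕ}
    (hk : k % 3 ≠ 0) (hcomm : ∀ h ∈ H0 (K := K), y * dg u ^ k * h = h * (y * dg u ^ k)) : False := by
  obtain ⟨S⟩ := Cfsg.Agent.Lie.E6.nonempty_setup (q := 2) (Nat.prime_two.isPrimePow) (K := K)
    (hK.trans (by norm_num))
  set c := y * dg u ^ k with hc
  obtain ⟨s, hs⟩ := scalar_sq K (C := (c : Matrix chevE6.Idx chevE6.Idx K)) fun j hj => by
    have hmem : gen j ∈ gens := by
      have hl : j < gens.length := by simpa [gens] using hj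
      rw [gen, List.getD_eq_getElem _ _ hl]
      exact List.getElem_mem hl
    have hwM : wM chevE6 K (gen j) =
        ((factsE6.wg (gword K (gen j)) : GL chevE6.Idx K) : Matrix chevE6.Idx chevE6.Idx K) := by
      rw [factsE6.coe_wg, ChevalleyDatum.wordMat, wM, gword, List.map_map]; rfl
    rw [hwM, ← Units.val_mul, ← Units.val_mul, hcomm _ (gen_mem_H0 hmem)]
  set y' := y * (dg u ^ k * y * (dg u ^ k)⁻¹) with hy'
  have hy'm : y' ∈ chevE6.group K :=
    (S.le_fix (mul_mem hy (dg_pow_twisted hu k hy))).1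
  have hcc : c * c = y' * dg (u ^ (2 * k)) := by
    rw [hy', hc, dg_pow, two_mul, pow_add]
    group
  refine not_mem_group (u := u ^ (2 * k)) ?_ ?_ hcube (v := y'⁻¹) (c := c * c) (s := s) ?_ (inv_mem hy'm) ?_
  · rw [← pow_mul, mul_comm, pow_mul, hu, one_pow]
  · intro h
    apply hu1
    rcases (show k % 3 = 1 ∨ k % 3 = 2 by omega) with h' | h'
    · rw [pow_mod_three hu (b := 2) (by omega)] at h
      calc u = u * u ^ 2 := by rw [h, mul_one]
        _ = 1 := by rw [← pow_succ', hu]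
    · rwa [pow_mod_three hu (b := 1) (by omega), pow_one] at h
  · rw [Units.val_mul, hs]
  · rw [hcc, inv_mul_cancel_left]

theorem main [Fintype K] (hK : Fintype.card K = 4) :
    ∃ H : Fin 3 → Subgroup (twistedE6 K 2),
      (∀ i, Nonempty ((H i) ≃* chevF4.group (ZMod 2))) ∧
      (∀ i j, i ≠ j → ∀ g : (twistedE6 K 2), (H i).map (MulAut.conj g).toMonoidHom ≠ H j) := by
  classical
  have hcard : Fintype.card Kˣ = 3 := by rw [Fintype.card_units, hK]
  have hcube : ∀ x : Kˣ, x ^ 3 = 1 := fun x => by rw [← hcard]; exact pow_card_eq_one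
  haveI : Nontrivial Kˣ := Fintype.one_lt_card_iff_nontrivial.1 (by omega)
  obtain ⟨u, hu1⟩ := exists_ne (1 : Kˣ)
  have hu := hcube u
  set d := dg u with hd'
  have hd3 : d ^ 3 = 1 := by
    rw [hd', ← dg_pow, hu, ← pow_zero u, dg_pow, pow_zero]
  let Hc : Fin 3 → Subgroup (GL chevE6.Idx K) := fun i =>
    (H0 (K := K)).map (MulAut.conj (d ^ i.val)).toMonoidHom
  have hle : ∀ i, Hc i ≤ twistedE6 K 2 := by
    rintro i _ ⟨x, hx, rfl⟩
    exact dg_pow_twisted hu _ (H0_le hx)
  refine ⟨fun i => (Hc i).subgroupOf (twistedE6 K 2), fun i => ?_, fun i j hij g heq => ?_⟩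
  · obtain ⟨e⟩ := iso_H0 (K := K)
    exact ⟨((Subgroup.subgroupOfEquivOfLe (hle i)).trans
      (Subgroup.equivMapOfInjective (H0 (K := K)) _ (MulAut.conj (d ^ i.val)).injective).symm).trans e⟩
  set m := (d ^ j.val)⁻¹ * (g : GL chevE6.Idx K) * d ^ i.val with hm
  have hmH : ∀ h ∈ H0 (K := K), m * h * m⁻¹ ∈ H0 (K := K) := by
    intro h hh
    have h1 : (⟨d ^ i.val * h * (d ^ i.val)⁻¹, hle i ⟨h, hh, rfl⟩⟩ : twistedE6 K 2) ∈
        (Hc i).subgroupOf (twistedE6 K 2) := ⟨h, hh, rfl⟩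
    have h2 := heq ▸ Subgroup.mem_map_of_mem (MulAut.conj g).toMonoidHom h1
    obtain ⟨x, hx, he⟩ := Subgroup.mem_subgroupOf.1 h2
    simp only [MulEquiv.coe_toMonoidHom, MulAut.conj_apply, Subgroup.coe_mul, Subgroup.coe_inv] at he
    have hxe : m * h * m⁻¹ = x := by
      calc m * h * m⁻¹ = (d ^ j.val)⁻¹ * ((g : GL chevE6.Idx K) *
            (d ^ i.val * h * (d ^ i.val)⁻¹) * (g : GL chevE6.Idx K)⁻¹) * d ^ j.val := by rw [hm]; group
        _ = x := by rw [← he]; group
    rw [hxe]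
    exact hx
  have hc : ∀ h ∈ H0 (K := K), m⁻¹ * frob m * h = h * (m⁻¹ * frob m) := by
    intro h hh
    have h1 := frob_H0 (hmH h hh)
    rw [map_mul, map_mul, map_inv, frob_H0 hh] at h1
    calc m⁻¹ * frob m * h = m⁻¹ * (frob m * h * (frob m)⁻¹) * frob m := by group
      _ = h * (m⁻¹ * frob m) := by rw [h1]; group
  have hinv : ∀ n : ℕ, (d ^ n)⁻¹ = d ^ (2 * n) := fun n => by
    rw [inv_eq_iff_mul_eq_one, ← pow_add, show n + 2 * n = 3 * n by ring, pow_mul, hd3, one_pow]
  have hf : ∀ n : ℕ, frob (d ^ n) = d ^ (2 * n) := fun n => by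
    rw [map_pow, hd', frob_dg, ← pow_mul]
  set n₁ := 2 * i.val with hn₁
  set n₂ := 2 * i.val + 2 * j.val with hn₂
  set y := (d ^ n₁ * (g : GL chevE6.Idx K)⁻¹ * (d ^ n₁)⁻¹) *
    (d ^ n₂ * frob (g : GL chevE6.Idx K) * (d ^ n₂)⁻¹) with hy
  have hcy : m⁻¹ * frob m = y * d ^ (n₂ + n₁) := by
    have e1 : frob ((d ^ j.val)⁻¹) = d ^ j.val := by
      rw [map_inv, hf, hinv, show 2 * (2 * j.val) = 3 * j.val + j.val by omega, pow_add, pow_mul, hd3,
        one_pow, one_mul]
    rw [hm, map_mul, map_mul, hf, e1, _root_.mul_inv_rev, _root_.mul_inv_rev, inv_inv, hinv i.val, hy,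
      ← hn₁, show n₂ = n₁ + (j.val + j.val) by omega]
    group
  refine not_commute hK hu hu1 hcube (y := y) (k := n₂ + n₁) ?_ ?_ fun h hh => ?_
  · rw [hy]
    exact mul_mem (dg_pow_twisted hu _ (inv_mem g.2)) (dg_pow_twisted hu _ (frob_twisted g.2))
  · have hi := i.isLt
    have hj := j.isLt
    have := Fin.val_ne_of_ne hij
    omega
  · rw [hd'] at hcy
    rw [← hcy]
    exact hc h hh

end Cfsg.Agent.Small.E6Three
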