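import Cfsg.Agent.Lib.Lie.XMat

/-!
Vectors over a field of characteristic two given by bit masks, and the action of term lists on them.
-/

set_option autoImplicit false

namespace Cfsg.Agent.Small.E6Three

open Cfsg.Lie Cfsg.Agent.Lie Matrix

/-- Bit `i` of `v`, computed with kernel arithmetic. -/
def bitB (v i : ℕ) : Bool := Nat.beq ((v >>> i) &&& 1) 1

theorem bitB_eq (v i : ℕ) : bitB v i = v.testBit i := by
  rw [bitB, Nat.shiftRight_eq_div_pow, Nat.and_one_is_mod, Nat.testBit_eq_decide_div_mod_eq]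
  rw [Bool.eq_iff_iff, Nat.beq_eq, decide_eq_true_iff]

/-- Is the coefficient odd. -/
def oddC (c : ℤ) : Bool := Nat.beq (c.natAbs % 2) 1

/-- The image of a mask under a list of terms modulo 2. -/
def tAp : List Tm → ℕ → ℕ
  | [], _ => 0
  | m :: L, v => (bif oddC m.c && bitB v m.col then 2 ^ m.row else 0) ^^^ tAp L v

/-- The image of a mask under a root element at 1 modulo 2. -/
def xAp (L : List Tm) (v : ℕ) : ℕ := v ^^^ tAp L v

/-- Transposed terms. -/
def swapL (L : List Tm) : List Tm := L.map fun m => ⟨m.col, m.row, m.a, m.b, m.c⟩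

variable (D : ChevalleyDatum) (K : Type*) [Field K]

/-- The vector of a mask. -/
def vec (v : ℕ) : D.Idx → K := fun p => if bitB v (idxEquiv D p) then 1 else 0

theorem vec_zero : vec D K 0 = 0 := by
  funext p; simp [vec, bitB_eq]

variable [CharP K 2]

theorem vec_xor (v w : ℕ) : vec D K (v ^^^ w) = vec D K v + vec D K w := by
  funext p
  simp only [vec, bitB_eq, Nat.testBit_xor, Pi.add_apply]
  cases v.testBit (idxEquiv D p : ℕ) <;> cases w.testBit (idxEquiv D p : ℕ) <;> simp [CharTwo.add_self_eq_zero]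

theorem vec_pow (i : ℕ) (p : D.Idx) : vec D K (2 ^ i) p = if (idxEquiv D p : ℕ) = i then 1 else 0 := by
  simp only [vec, bitB_eq, Nat.testBit_two_pow]
  by_cases h : (idxEquiv D p : ℕ) = i
  · simp [h]
  · simp [h, Ne.symm h]

theorem vec_single (p : D.Idx) : vec D K (2 ^ (idxEquiv D p : ℕ)) = Pi.single p 1 := by
  funext q
  rw [vec_pow, Pi.single_apply]
  simp only [Fin.val_inj, (idxEquiv D).injective.eq_iff]

theorem oddC_cast (c : ℤ) : (c : K) = if oddC c then 1 else 0 := by
  have h2 : (2 : K) = 0 := CharTwo.two_eq_zero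
  have key : ∀ n : ℕ, (n : K) = if n % 2 = 1 then 1 else 0 := by
    intro n
    conv_lhs => rw [← Nat.div_add_mod n 2]
    push_cast
    rw [h2]
    rcases Nat.mod_two_eq_zero_or_one n with h | h <;> simp [h]
  have hc : (c : K) = (c.natAbs : K) := by
    rcases Int.natAbs_eq c with h | h
    · conv_lhs => rw [h]
      simp
    · conv_lhs => rw [h]
      simp [CharTwo.neg_eq]
  rw [hc, key]
  simp [oddC]

variable {ι : Type*}

theorem tm_mulVec (m : Tm) (v : ℕ) (hm : m.col < D.rank + D.nroots) :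
    m.ev (idxEquiv D) (1 : K) 1 *ᵥ vec D K v =
      vec D K (bif oddC m.c && bitB v m.col then 2 ^ m.row else 0) := by
  funext p
  rw [Matrix.mulVec, dotProduct, Finset.sum_eq_single ((idxEquiv D).symm ⟨m.col, hm⟩)]
  · simp only [tm_ev_apply, Equiv.apply_symm_apply, and_true, one_pow, mul_one, oddC_cast]
    simp only [vec, Equiv.apply_symm_apply]
    by_cases hp : (idxEquiv D p : ℕ) = m.row
    · cases oddC m.c <;> cases bitB v m.col <;> simp [bitB_eq, hp, Nat.testBit_two_pow]
    · cases oddC m.c <;> cases bitB v m.col <;> simp [bitB_eq, hp, Nat.testBit_two_pow, Ne.symm hp]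
  · intro q _ hq
    rw [tm_ev_apply, if_neg, zero_mul]
    rintro ⟨-, h⟩
    exact hq ((idxEquiv D).injective (Fin.ext (by simp [h])))
  · simp

theorem ev_mulVec : ∀ (L : List Tm), (∀ m ∈ L, m.col < D.rank + D.nroots) → ∀ v : ℕ,
    ev D K 1 1 L *ᵥ vec D K v = vec D K (tAp L v)
  | [], _, v => by simp [ev, tAp, vec_zero]
  | m :: L, h, v => by
    rw [ev, evL_cons, Matrix.add_mulVec, tm_mulVec D K m v (h m List.mem_cons_self)]
    rw [show evL (idxEquiv D) (1 : K) 1 L = ev D K 1 1 L from rfl,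
      ev_mulVec L (fun x hx => h x (List.mem_cons_of_mem _ hx)) v, tAp, vec_xor]

theorem ev_transpose (L : List Tm) : (ev D K 1 1 L)ᵀ = ev D K 1 1 (swapL L) := by
  induction L with
  | nil => simp [ev, swapL]
  | cons m L ih =>
    simp only [ev, swapL, List.map_cons, evL_cons, Matrix.transpose_add] at ih ⊢
    rw [ih]
    congr 1
    ext p q
    simp only [Matrix.transpose_apply, tm_ev_apply, and_comm]

/-- All terms stay inside the coordinate range. -/
def fitsD (L : List Tm) : Bool :=
  L.all fun m => Nat.blt m.col (D.rank + D.nroots) && Nat.blt m.row (D.rank + D.nroots)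

omit [CharP K 2] in
theorem fitsD_col {L : List Tm} (h : fitsD D L = true) :
    (∀ m ∈ L, m.col < D.rank + D.nroots) ∧ ∀ m ∈ swapL L, m.col < D.rank + D.nroots := by
  simp only [fitsD, List.all_eq_true, Bool.and_eq_true, Nat.blt_eq] at h
  refine ⟨fun m hm => (h m hm).1, fun m hm => ?_⟩
  obtain ⟨n, hn, rfl⟩ := List.mem_map.1 hm
  exact (h n hn).2

theorem x_mulVec (r : ℕ) (h : fitsD D (ent D r) = true) (v : ℕ) :
    D.x K r 1 *ᵥ vec D K v = vec D K (xAp (ent D r) v) := by
  rw [x_eq D K r 1 1, Matrix.add_mulVec, Matrix.one_mulVec, ev_mulVec D K _ (fitsD_col D h).1, xAp, vec_xor]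

theorem x_vecMul (r : ℕ) (h : fitsD D (ent D r) = true) (v : ℕ) :
    vec D K v ᵥ* D.x K r 1 = vec D K (xAp (swapL (ent D r)) v) := by
  rw [x_eq D K r 1 1, ← Matrix.mulVec_transpose, Matrix.transpose_add, Matrix.transpose_one,
    ev_transpose, Matrix.add_mulVec, Matrix.one_mulVec, ev_mulVec D K _ (fitsD_col D h).2, xAp, vec_xor]

/-- The image of a mask under a word. -/
def wAp (w : List ℕ) (v : ℕ) : ℕ := w.foldr (fun r u => xAp (ent D r) u) v

/-- The image of a mask under the transpose of a word. -/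
def wApT (w : List ℕ) (v : ℕ) : ℕ := w.foldl (fun u r => xAp (swapL (ent D r)) u) v

/-- The matrix of a word at 1. -/
def wM (w : List ℕ) : Matrix D.Idx D.Idx K := (w.map fun r => D.x K r 1).prod

theorem wM_mulVec : ∀ (w : List ℕ), (∀ r ∈ w, fitsD D (ent D r) = true) → ∀ v : ℕ,
    wM D K w *ᵥ vec D K v = vec D K (wAp D w v)
  | [], _, v => by simp [wM, wAp]
  | r :: w, h, v => by
    rw [wM, List.map_cons, List.prod_cons, ← Matrix.mulVec_mulVec]
    rw [show (w.map fun r => D.x K r 1).prod = wM D K w from rfl,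
      wM_mulVec w (fun x hx => h x (List.mem_cons_of_mem _ hx)) v, x_mulVec D K r (h r List.mem_cons_self)]
    rfl

theorem wM_vecMul : ∀ (w : List ℕ), (∀ r ∈ w, fitsD D (ent D r) = true) → ∀ v : ℕ,
    vec D K v ᵥ* wM D K w = vec D K (wApT D w v)
  | [], _, v => by simp [wM, wApT]
  | r :: w, h, v => by
    rw [wM, List.map_cons, List.prod_cons, ← Matrix.vecMul_vecMul, x_vecMul D K r (h r List.mem_cons_self),
      show (w.map fun r => D.x K r 1).prod = wM D K w from rfl,
      wM_vecMul w (fun x hx => h x (List.mem_cons_of_mem _ hx))]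
    rfl

theorem ext_of_units {A B : Matrix D.Idx D.Idx K}
    (h : ∀ i, i < D.rank + D.nroots → A *ᵥ vec D K (2 ^ i) = B *ᵥ vec D K (2 ^ i)) : A = B := by
  ext p q
  have := congrFun (h _ (idxEquiv D q).isLt) p
  simpa [vec_single, Matrix.mulVec_single] using this

/-- Exclusive or of the selected members of a list. -/
def sel : List ℕ → ℕ → ℕ
  | [], _ => 0
  | a :: L, m => (bif bitB m 0 then a else 0) ^^^ sel L (m >>> 1)

theorem sel_mem {P : ℕ → Prop} (h0 : P 0) (hx : ∀ a b, P a → P b → P (a ^^^ b)) :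
    ∀ (L : List ℕ), (∀ a ∈ L, P a) → ∀ m, P (sel L m)
  | [], _, _ => h0
  | a :: L, h, m => by
    refine hx _ _ ?_ (sel_mem h0 hx L (fun b hb => h b (List.mem_cons_of_mem _ hb)) _)
    cases bitB m 0
    · exact h0
    · exact h a List.mem_cons_self

end Cfsg.Agent.Small.E6Three
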