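import Cfsg.Agent.Lib.Small.E6Three.Checks

/-!
Matrices commuting with the generators of the folded F4: their squares are scalar.
-/

set_option autoImplicit false

namespace Cfsg.Agent.Small.E6Three

open Cfsg.Lie Cfsg.Agent.Lie Matrix

variable (K : Type*) [Field K] [CharP K 2]

theorem fits {j : ℕ} : ∀ r ∈ gen j, fitsD chevE6 (ent chevE6 r) = true := by
  intro r hr
  have h := okFits_true
  simp only [okFits, Bool.and_eq_true, List.all_eq_true] at h
  by_cases hj : j < gens.length
  · rw [gen, List.getD_eq_getElem _ _ hj] at hr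
    exact h.1 _ (List.getElem_mem hj) r hr
  · rw [gen, List.getD_eq_default _ _ (not_lt.1 hj)] at hr
    exact absurd hr List.not_mem_nil

theorem permL_col : ∀ m ∈ permL, m.col < chevE6.rank + chevE6.nroots := by
  have h := okFits_true
  simp only [okFits, Bool.and_eq_true] at h
  exact (fitsD_col chevE6 h.2).1

/-- The commuting permutation matrix. -/
noncomputable def pM : Matrix chevE6.Idx chevE6.Idx K := ev chevE6 K 1 1 permL

theorem pM_mulVec (v : ℕ) : pM K *ᵥ vec chevE6 K v = vec chevE6 K (tAp permL v) :=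
  ev_mulVec chevE6 K permL permL_col v

theorem gen_mulVec (j v : ℕ) :
    wM chevE6 K (gen j) *ᵥ vec chevE6 K v = vec chevE6 K (wAp chevE6 (gen j) v) :=
  wM_mulVec chevE6 K _ fits v

theorem pM_sq : pM K * pM K = 1 := by
  refine ext_of_units chevE6 K fun i hi => ?_
  have h := okPerm_true
  simp only [okPerm, List.all_eq_true, List.mem_range, Bool.and_eq_true, Nat.beq_eq] at h
  rw [← mulVec_mulVec, pM_mulVec, pM_mulVec, (h i hi).1, one_mulVec]

theorem pM_comm {j : ℕ} (hj : j < 8) : wM chevE6 K (gen j) * pM K = pM K * wM chevE6 K (gen j) := by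
  refine ext_of_units chevE6 K fun i hi => ?_
  have h := okPerm_true
  simp only [okPerm, List.all_eq_true, List.mem_range, Bool.and_eq_true, Nat.beq_eq] at h
  have hmem : gen j ∈ gens := by
    have hl : j < gens.length := by simpa [gens] using hj
    rw [gen, List.getD_eq_getElem _ _ hl]
    exact List.getElem_mem hl
  rw [← mulVec_mulVec, ← mulVec_mulVec, pM_mulVec, gen_mulVec, gen_mulVec, pM_mulVec,
    (h i hi).2 _ hmem]

theorem comb_dot {w : chevE6.Idx → K} : ∀ (js us : List ℕ),
    (∀ j ∈ js, wM chevE6 K (gen j) *ᵥ w = w) → vec chevE6 K (comb js us) ⬝ᵥ w = 0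
  | [], us, _ => by simp [comb, vec_zero]
  | j :: js, [], _ => by simp [comb, vec_zero]
  | j :: js, u :: us, h => by
    rw [comb, vec_xor, add_dotProduct, comb_dot js us fun x hx => h x (List.mem_cons_of_mem _ hx),
      add_zero, vec_xor, add_dotProduct, ← wM_vecMul chevE6 K _ fits, ← dotProduct_mulVec,
      h j List.mem_cons_self]
    exact CharTwo.add_self_eq_zero _

/-- A matrix commuting with the generators has scalar square. -/
theorem scalar_sq {C : Matrix chevE6.Idx chevE6.Idx K}
    (hC : ∀ j, j < 8 → C * wM chevE6 K (gen j) = wM chevE6 K (gen j) * C) :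
    ∃ s : K, C * C = s • (1 : Matrix chevE6.Idx chevE6.Idx K) := by
  obtain ⟨hst, hP0⟩ : (∀ j ∈ stab, j < 8 ∧ wAp chevE6 (gen j) 1 = 1) ∧ tAp permL 1 = 2 ^ 5 := by
    have h := okStab_true
    simp only [okStab, List.all_eq_true, Bool.and_eq_true, Nat.beq_eq, Nat.blt_eq] at h
    exact h
  set w := C *ᵥ vec chevE6 K 1 with hw
  have hfix : ∀ j ∈ stab, wM chevE6 K (gen j) *ᵥ w = w := by
    intro j hj
    rw [hw, mulVec_mulVec, ← hC j (hst j hj).1, ← mulVec_mulVec, gen_mulVec, (hst j hj).2]
  let e : ℕ → chevE6.Idx := fun i =>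
    if h : i < chevE6.rank + chevE6.nroots then (idxEquiv chevE6).symm ⟨i, h⟩ else
      Sum.inl ⟨0, by decide⟩
  have hw0 : ∀ p : chevE6.Idx, (idxEquiv chevE6 p : ℕ) ≠ 0 → (idxEquiv chevE6 p : ℕ) ≠ 5 → w p = 0 := by
    intro p h0 h5
    have h := okFix_true
    simp only [okFix, List.all_eq_true, List.mem_range, Bool.and_eq_true, Bool.or_eq_true, Nat.beq_eq,
      List.any_eq_true] at h
    rcases h.1 _ (idxEquiv chevE6 p).isLt with (h' | h') | ⟨c, hc, hc'⟩
    · exact absurd h' h0
    · exact absurd h' h5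
    · have := comb_dot K stab c.2 hfix
      rwa [h.2 c hc, hc', vec_single, single_dotProduct, one_mul] at this
  set a := w (e 0) with ha
  set b := w (e 5) with hb
  set C' := C - a • (1 : Matrix chevE6.Idx chevE6.Idx K) - b • pM K with hC'
  have hkill : C' *ᵥ vec chevE6 K 1 = 0 := by
    rw [hC', sub_mulVec, sub_mulVec, smul_mulVec, smul_mulVec, one_mulVec, pM_mulVec, hP0, ← hw]
    funext p
    rw [show (1 : ℕ) = 2 ^ 0 from rfl]
    simp only [Pi.sub_apply, Pi.smul_apply, vec_pow, smul_eq_mul, Pi.zero_apply]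
    by_cases h0 : (idxEquiv chevE6 p : ℕ) = 0
    · have : e 0 = p := by
        simp only [e, dif_pos (show 0 < chevE6.rank + chevE6.nroots by decide)]
        rw [Equiv.symm_apply_eq]
        exact Fin.ext h0.symm
      rw [if_pos h0, if_neg (by omega), ha, this]
      simp
    · by_cases h5 : (idxEquiv chevE6 p : ℕ) = 5
      · have : e 5 = p := by
          simp only [e, dif_pos (show 5 < chevE6.rank + chevE6.nroots by decide)]
          rw [Equiv.symm_apply_eq]
          exact Fin.ext h5.symm
        rw [if_neg h0, if_pos h5, hb, this]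
        simp
      · rw [if_neg h0, if_neg h5, hw0 p h0 h5]
        simp
  have hcomm : ∀ j, j < 8 → C' * wM chevE6 K (gen j) = wM chevE6 K (gen j) * C' := by
    intro j hj
    rw [hC', sub_mul, sub_mul, mul_sub, mul_sub, hC j hj, smul_mul_assoc, smul_mul_assoc, mul_smul_comm,
      mul_smul_comm, one_mul, mul_one, pM_comm K hj]
  obtain ⟨hsp, hun⟩ : (∀ x ∈ spins, x.1 < 8) ∧
      ∀ i < 78, sel (spun spins [1]) (units.getD i 0) = 2 ^ i := by
    have h := okSpin_true
    simp only [okSpin, List.all_eq_true, List.mem_range, Bool.and_eq_true, Nat.beq_eq, Nat.blt_eq] at h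
    exact h
  have hspun : ∀ (L : List (ℕ × ℕ)), (∀ x ∈ L, x.1 < 8) → ∀ S : List ℕ,
      (∀ v ∈ S, C' *ᵥ vec chevE6 K v = 0) → ∀ v ∈ spun L S, C' *ᵥ vec chevE6 K v = 0 := by
    intro L
    induction L with
    | nil => exact fun _ S hS => hS
    | cons x L ih =>
      intro hL S hS
      refine ih (fun y hy => hL y (List.mem_cons_of_mem _ hy)) _ fun v hv => ?_
      rcases List.mem_append.1 hv with hv | hv
      · exact hS v hv
      · rw [List.mem_singleton.1 hv, ← gen_mulVec, mulVec_mulVec, hcomm _ (hL x List.mem_cons_self),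
          ← mulVec_mulVec]
        by_cases hx : x.2 < S.length
        · rw [List.getD_eq_getElem _ _ hx, hS _ (List.getElem_mem hx), mulVec_zero]
        · rw [List.getD_eq_default _ _ (not_lt.1 hx), vec_zero, mulVec_zero, mulVec_zero]
  have hC0 : C' = 0 := by
    refine ext_of_units chevE6 K fun i hi => ?_
    rw [zero_mulVec, ← hun i hi]
    refine sel_mem (P := fun v => C' *ᵥ vec chevE6 K v = 0) (by rw [vec_zero, mulVec_zero])
      (fun x y hx hy => by rw [vec_xor, mulVec_add, hx, hy, add_zero]) _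
      (hspun spins hsp [1] fun v hv => by rw [List.mem_singleton.1 hv, hkill]) _
  refine ⟨a * a + b * b, ?_⟩
  have hCe : C = a • (1 : Matrix chevE6.Idx chevE6.Idx K) + b • pM K := by
    rw [← sub_eq_zero, ← hC0, hC', sub_sub]
  rw [hCe]
  simp only [add_mul, mul_add, smul_mul_assoc, mul_smul_comm, one_mul, mul_one, pM_sq]
  simp only [smul_add, smul_smul]
  rw [add_assoc, ← add_assoc ((a * b) • pM K), mul_comm b a, ← add_smul, CharTwo.add_self_eq_zero,
    zero_smul, zero_add, ← add_smul]

end Cfsg.Agent.Small.E6Three
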