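import Cfsg.Agent.Lib.Small.E6Three.Bits
import Cfsg.Agent.Lib.Small.E6Three.Data
import Cfsg.Agent.Lib.Lie.AllFacts

/-!
Kernel checks of the certificates for the centraliser of the folded F4.
-/

set_option autoImplicit false
set_option maxRecDepth 100000

namespace Cfsg.Agent.Small.E6Three

open Cfsg.Lie Cfsg.Agent.Lie

/-- A generator word. -/
def gen (j : ℕ) : List ℕ := gens.getD j []

/-- The permutation as terms. -/
def permL : List Tm := perm.zipIdx.map fun p => ⟨p.1, p.2, 0, 0, 1⟩

/-- All generators fit. -/
def okFits : Bool := (gens.all fun w => w.all fun r => fitsD chevE6 (ent chevE6 r)) && fitsD chevE6 permL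

/-- The permutation commutes with the generators and squares to one. -/
def okPerm : Bool :=
  (List.range 78).all fun i =>
    Nat.beq (tAp permL (tAp permL (2 ^ i))) (2 ^ i) &&
      gens.all fun w => Nat.beq (wAp chevE6 w (tAp permL (2 ^ i))) (tAp permL (wAp chevE6 w (2 ^ i)))

/-- The stabiliser generators fix the first unit vector. -/
def okStab : Bool := (stab.all fun j => Nat.blt j 8 && Nat.beq (wAp chevE6 (gen j) 1) 1) && Nat.beq (tAp permL 1) (2 ^ 5)

/-- The value of a row combination. -/
def comb : List ℕ → List ℕ → ℕ
  | j :: js, u :: us => (wApT chevE6 (gen j) u ^^^ u) ^^^ comb js us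
  | _, _ => 0

/-- The fixed space lies on two coordinates. -/
def okFix : Bool :=
  ((List.range 78).all fun p => Nat.beq p 0 || Nat.beq p 5 || fixCert.any fun c => Nat.beq c.1 p) &&
    fixCert.all fun c => Nat.beq (comb stab c.2) (2 ^ c.1)

/-- The spun vectors. -/
def spun : List (ℕ × ℕ) → List ℕ → List ℕ
  | [], S => S
  | s :: rest, S => spun rest (S ++ [wAp chevE6 (gen s.1) (S.getD s.2 0)])

/-- The first unit vector spins to the whole module. -/
def okSpin : Bool :=
  (spins.all fun s => Nat.blt s.1 8) &&
    (fun S : List ℕ => (List.range 78).all fun i => Nat.beq (sel S (units.getD i 0)) (2 ^ i)) (spun spins [1])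

theorem okFits_true : okFits = true := by decide +kernel

theorem okPerm_true : okPerm = true := by decide +kernel

theorem okStab_true : okStab = true := by decide +kernel

theorem okFix_true : okFix = true := by decide +kernel

theorem okSpin_true : okSpin = true := by decide +kernel

/-- Exponents of the diagonal character. -/
def expE (s : ℕ) : ℕ :=
  ((((chevE6.coroot.getD s #[]).getD 0 0) + 2 * ((chevE6.coroot.getD s #[]).getD 5 0)) % 3).toNat

/-- The exponents form a character modulo three. -/
def okChar : Bool :=
  (List.range 72).all fun s => Nat.beq ((expE (chevE6.neg s) + expE s) % 3) 0 &&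
    (List.range 72).all fun v => (chevE6.chainEntry s v).zipIdx.all fun q =>
      Nat.beq (expE q.1.1 % 3) ((expE v + (q.2 + 1) * expE s) % 3)

theorem okChar_true : okChar = true := by decide +kernel

end Cfsg.Agent.Small.E6Three
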